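import Mathlib
import Groth.Prelude.Def_CAlgX
import Groth.Prelude.Def_W4stkadequatePure
import Groth.Agent.S8773

/-!
# Pure projective and pure injective modules

Universally injective kernels versus lifting of finitely presented modules, pure projective covers by direct sums
of finitely presented modules, pure injectivity of character modules.
-/

set_option autoImplicit false

universe u

open TensorProduct

namespace Groth.Agent.PureExtLib

variable (R : Type u) [CommRing R]

/-- Every map into `N` lifts along surjections with universally injective kernel. -/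
def PureProj (P : Type u) [AddCommGroup P] [Module R P] : Prop :=
  ∀ ⦃L N : Type u⦄ [AddCommGroup L] [Module R L] [AddCommGroup N] [Module R N] (g : L →ₗ[R] N),
    Function.Surjective g → CAlgX.UniversallyInjective R (LinearMap.ker g).subtype →
      ∀ φ : P →ₗ[R] N, ∃ ψ : P →ₗ[R] L, g ∘ₗ ψ = φ

/-- Every map into `I` extends along universally injective maps. -/
def PureInj (I : Type u) [AddCommGroup I] [Module R I] : Prop :=
  ∀ ⦃K L : Type u⦄ [AddCommGroup K] [Module R K] [AddCommGroup L] [Module R L] (f : K →ₗ[R] L),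
    CAlgX.UniversallyInjective R f → ∀ φ : K →ₗ[R] I, ∃ ψ : L →ₗ[R] I, ψ ∘ₗ f = φ

/-- Maps from finitely presented modules lift along `g`. -/
def FPLifts {L N : Type u} [AddCommGroup L] [Module R L] [AddCommGroup N] [Module R N] (g : L →ₗ[R] N) : Prop :=
  ∀ (Q : Type u) [AddCommGroup Q] [Module R Q], Module.FinitePresentation R Q →
    ∀ φ : Q →ₗ[R] N, ∃ ψ : Q →ₗ[R] L, g ∘ₗ ψ = φ

variable {R}

theorem charEval_uInj (M : Type u) [AddCommGroup M] [Module R M] :
    CAlgX.UniversallyInjective R (PureExt.charEval R M) := by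
  intro Q _ _
  rw [rTensor_injective_iff_lcomp_surjective]
  intro φ
  let φ' : Q →ₗ[R] CharacterModule M :=
    { toFun := fun q =>
        { toFun := fun m => φ m q
          map_zero' := by rw [map_zero φ]; rfl
          map_add' := fun a b => by rw [map_add φ]; rfl }
      map_add' := fun a b => CharacterModule.ext _ fun m => map_add (φ m) a b
      map_smul' := fun r a => CharacterModule.ext _ fun m => by
        change φ m (r • a) = φ (r • m) a
        rw [map_smul φ]
        rfl }
  exact ⟨CharacterModule.dual φ', LinearMap.ext fun m => CharacterModule.ext _ fun q => rfl⟩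

theorem pureInj_char (X : Type u) [AddCommGroup X] [Module R X] : PureInj R (CharacterModule X) := by
  intro K L _ _ _ _ f hf φ
  exact (rTensor_injective_iff_lcomp_surjective.1 (hf X)) φ

theorem pureInj_iff_splits (I : Type u) [AddCommGroup I] [Module R I] :
    PureInj R I ↔ ∃ r : CharacterModule (CharacterModule I) →ₗ[R] I, r ∘ₗ PureExt.charEval R I = LinearMap.id := by
  constructor
  · intro h
    exact h _ (charEval_uInj I) LinearMap.id
  · rintro ⟨r, hr⟩ K L _ _ _ _ f hf φ
    obtain ⟨ψ, hψ⟩ := pureInj_char (CharacterModule I) f hf (PureExt.charEval R I ∘ₗ φ)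
    exact ⟨r ∘ₗ ψ, by rw [LinearMap.comp_assoc, hψ, ← LinearMap.comp_assoc, hr, LinearMap.id_comp]⟩

section Lifts

variable {L N : Type u} [AddCommGroup L] [Module R L] [AddCommGroup N] [Module R N]

theorem fpLifts_of_uInj {g : L →ₗ[R] N} (hg : Function.Surjective g)
    (h : CAlgX.UniversallyInjective R (LinearMap.ker g).subtype) : FPLifts R g := by
  classical
  intro Q _ _ hQ φ
  obtain ⟨n, m, f, r, hf, hex⟩ := Module.FinitePresentation.exists_fin' (fp := hQ) R Q
  choose l hl using fun i : Fin n => hg (φ (f (Pi.single i 1)))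
  let Φ : (Fin n → R) →ₗ[R] L := Fintype.linearCombination R l
  have hΦ : ∀ v, g (Φ v) = φ (f v) := by
    intro v
    have hv : v = ∑ i, v i • Pi.single i (1 : R) := pi_eq_sum_univ' v
    conv_rhs => rw [hv, map_sum, map_sum]
    simp [Φ, Fintype.linearCombination_apply, hl]
  let e : Fin m → Fin m → R := fun j => Pi.single j 1
  let kk : Fin m → LinearMap.ker g := fun j => ⟨Φ (r (e j)), by
    rw [LinearMap.mem_ker, hΦ, hex.apply_apply_eq_zero, map_zero]⟩
  let rT : (Fin n → R) →ₗ[R] (Fin m → R) := LinearMap.pi fun j => ∑ i, r (e j) i • LinearMap.proj i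
  let T : (Fin n → LinearMap.ker g) →ₗ[R] (Fin m → LinearMap.ker g) :=
    LinearMap.pi fun j => ∑ i, r (e j) i • LinearMap.proj i
  have hrT : ∀ i j, rT (Pi.single i 1) j = r (e j) i := by
    intro i j
    simp [rT, Pi.single_apply]
  let C := (Fin m → R) ⧸ LinearMap.range rT
  let β0 : (Fin m → R) →ₗ[R] LinearMap.ker g →ₗ[R] ((Fin m → LinearMap.ker g) ⧸ LinearMap.range T) :=
    LinearMap.mk₂ R (fun v k => Submodule.Quotient.mk fun j => v j • k)
      (fun v v' k => by rw [← Submodule.Quotient.mk_add]; congr 1; funext j; exact add_smul _ _ _)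
      (fun c v k => by rw [← Submodule.Quotient.mk_smul]; congr 1; funext j; exact smul_assoc c (v j) k)
      (fun v k k' => by rw [← Submodule.Quotient.mk_add]; congr 1; funext j; exact smul_add _ _ _)
      (fun c v k => by rw [← Submodule.Quotient.mk_smul]; congr 1; funext j; exact smul_comm _ _ _)
  have hβ0 : LinearMap.range rT ≤ LinearMap.ker β0 := by
    rintro _ ⟨w, rfl⟩
    refine LinearMap.mem_ker.2 (LinearMap.ext fun k => ?_)
    change (Submodule.Quotient.mk fun j => rT w j • k) = 0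
    rw [Submodule.Quotient.mk_eq_zero]
    refine ⟨fun i => w i • k, funext fun j => ?_⟩
    simp [T, rT, Finset.sum_smul, mul_smul]
  let β : LinearMap.ker g →ₗ[R] C →ₗ[R] ((Fin m → LinearMap.ker g) ⧸ LinearMap.range T) :=
    ((LinearMap.range rT).liftQ β0 hβ0).flip
  let ξ : LinearMap.ker g ⊗[R] C := ∑ j, kk j ⊗ₜ[R] Submodule.Quotient.mk (e j)
  have hξ : ξ = 0 := by
    apply h C
    rw [map_zero]
    have h1 : ∀ j, ((LinearMap.ker g).subtype.rTensor C) (kk j ⊗ₜ[R] Submodule.Quotient.mk (e j)) =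
        ∑ i, l i ⊗ₜ[R] (Submodule.Quotient.mk (r (e j) i • e j) : C) := by
      intro j
      simp [kk, Φ, Fintype.linearCombination_apply, TensorProduct.sum_tmul, TensorProduct.smul_tmul]
    rw [map_sum, Finset.sum_congr rfl (fun j _ => h1 j), Finset.sum_comm]
    refine Finset.sum_eq_zero fun i _ => ?_
    have h2 : (∑ j, r (e j) i • e j) = rT (Pi.single i 1) := by
      funext j'
      simp [hrT, e, Finset.sum_apply, Pi.single_apply]
    rw [← TensorProduct.tmul_sum]
    have h3 : (∑ j, (Submodule.Quotient.mk (r (e j) i • e j) : C)) =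
        (LinearMap.range rT).mkQ (∑ j, r (e j) i • e j) := by rw [map_sum]; rfl
    rw [h3, h2, Submodule.mkQ_apply,
      (Submodule.Quotient.mk_eq_zero _).2 (LinearMap.mem_range_self rT _), TensorProduct.tmul_zero]
  have hkk : (Submodule.Quotient.mk kk : (Fin m → LinearMap.ker g) ⧸ LinearMap.range T) = 0 := by
    have := congrArg (TensorProduct.lift β) hξ
    rw [map_zero, map_sum] at this
    simp only [TensorProduct.lift.tmul] at this
    rw [← this]
    change (LinearMap.range T).mkQ kk = ∑ j, (LinearMap.range T).mkQ (fun j' => e j j' • kk j)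
    rw [← map_sum]
    congr 1
    funext j'
    simp [e, Finset.sum_apply, Pi.single_apply]
  rw [Submodule.Quotient.mk_eq_zero] at hkk
  obtain ⟨k', hk'⟩ := hkk
  let Ψ0 : (Fin n → R) →ₗ[R] L := Φ - Fintype.linearCombination R (fun i => (k' i : L))
  have hΨ0r : Ψ0 ∘ₗ r = 0 := by
    refine LinearMap.pi_ext' fun j => LinearMap.ext_ring ?_
    have := congrArg Subtype.val (congrFun hk' j)
    simp [T, kk] at this
    simpa [Ψ0, Fintype.linearCombination_apply, e, sub_eq_zero] using this.symm
  have hker : LinearMap.ker f ≤ LinearMap.ker Ψ0 := by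
    intro v hv
    obtain ⟨w, rfl⟩ := (hex v).1 hv
    exact LinearMap.congr_fun hΨ0r w
  refine ⟨(LinearMap.ker f).liftQ Ψ0 hker ∘ₗ (f.quotKerEquivOfSurjective hf).symm.toLinearMap, LinearMap.ext fun q => ?_⟩
  obtain ⟨v, rfl⟩ := hf q
  have hv : (f.quotKerEquivOfSurjective hf).symm (f v) = Submodule.Quotient.mk v := by
    rw [LinearEquiv.symm_apply_eq]; rfl
  change g ((LinearMap.ker f).liftQ Ψ0 hker ((f.quotKerEquivOfSurjective hf).symm (f v))) = φ (f v)
  rw [hv, Submodule.liftQ_apply]
  simp [Ψ0, hΦ, Fintype.linearCombination_apply]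

theorem uInj_ker_of_fpLifts {g : L →ₗ[R] N} (h : FPLifts R g) :
    CAlgX.UniversallyInjective R (LinearMap.ker g).subtype := by
  classical
  intro Q _ _
  rw [injective_iff_map_eq_zero]
  intro z hz
  let π : (Q →₀ R) →ₗ[R] Q := Finsupp.linearCombination R id
  have hπ : Function.Surjective π := fun q => ⟨Finsupp.single q 1, by simp [π]⟩
  obtain ⟨z', rfl⟩ := LinearMap.lTensor_surjective (LinearMap.ker g) hπ z
  have hexπ : Function.Exact (LinearMap.ker π).subtype π := fun x => ⟨fun hx => ⟨⟨x, hx⟩, rfl⟩, by rintro ⟨y, rfl⟩; exact y.2⟩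
  have hex := lTensor_exact (M := ↥(LinearMap.ker π)) L hexπ hπ
  have hz' : π.lTensor L ((LinearMap.ker g).subtype.rTensor (Q →₀ R) z') = 0 := by
    rw [← LinearMap.comp_apply, LinearMap.lTensor_comp_rTensor, ← LinearMap.rTensor_comp_lTensor]
    exact hz
  obtain ⟨w, hw⟩ := (hex _).1 hz'
  obtain ⟨S, hS⟩ := TensorProduct.exists_finset w
  let U : Finset Q := S.biUnion fun i => (i.2 : Q →₀ R).support
  let rel : Q → (↥S → R) := fun q i => (i.1.2 : Q →₀ R) q
  let W : Submodule R (↥S → R) := Submodule.span R (↑(U.image rel) : Set (↥S → R))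
  have hrelW : ∀ q, rel q ∈ W := by
    intro q
    by_cases hq : q ∈ U
    · exact Submodule.subset_span (Finset.mem_coe.2 (Finset.mem_image_of_mem _ hq))
    · have : rel q = 0 := by
        funext i
        simp only [U, Finset.mem_biUnion, not_exists, not_and, Finsupp.mem_support_iff, not_not] at hq
        exact hq i.1 i.2
      rw [this]
      exact W.zero_mem
  have : Module.FinitePresentation R ((↥S → R) ⧸ W) :=
    Module.finitePresentation_of_surjective W.mkQ W.mkQ_surjective
      (by rw [Submodule.ker_mkQ]; exact Submodule.fg_span (Finset.finite_toSet _))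
  let k : Q →₀ LinearMap.ker g := TensorProduct.finsuppScalarRight R R (LinearMap.ker g) Q z'
  have hk : ∀ (t : LinearMap.ker g ⊗[R] (Q →₀ R)) (q : Q),
      TensorProduct.finsuppScalarRight R R L Q ((LinearMap.ker g).subtype.rTensor (Q →₀ R) t) q =
        ((TensorProduct.finsuppScalarRight R R (LinearMap.ker g) Q t) q : L) := by
    intro t q
    induction t with
    | zero => simp
    | tmul a b => simp
    | add a b ha hb => simp [ha, hb]
  have hrel : ∀ q, ∑ i : ↥S, rel q i • i.1.1 = (k q : L) := by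
    intro q
    rw [← hk z' q, ← hw, hS, map_sum, map_sum, Finsupp.finsetSum_apply]
    refine Eq.trans ?_ (Finset.sum_coe_sort S _)
    exact Finset.sum_congr rfl fun i _ => by simp [rel]
  let lc : (↥S → R) →ₗ[R] N := Fintype.linearCombination R fun i => g i.1.1
  have hlc : W ≤ LinearMap.ker lc := by
    refine Submodule.span_le.2 fun v hv => ?_
    obtain ⟨q, _, rfl⟩ := Finset.mem_image.1 (Finset.mem_coe.1 hv)
    rw [SetLike.mem_coe, LinearMap.mem_ker]
    have := congrArg g (hrel q)
    rw [map_sum, LinearMap.mem_ker.1 (k q).2] at this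
    simpa [lc, Fintype.linearCombination_apply] using this
  obtain ⟨ψ, hψ⟩ := h _ this (W.liftQ lc hlc)
  let l' : ↥S → L := fun i => ψ (Submodule.Quotient.mk (Pi.single i 1))
  have hl' : ∀ i, g (l' i) = g i.1.1 := by
    intro i
    have := LinearMap.congr_fun hψ (Submodule.Quotient.mk (Pi.single i 1))
    simpa [l', lc] using this
  have hl'rel : ∀ q, ∑ i : ↥S, rel q i • l' i = 0 := by
    intro q
    have h1 : (∑ i, rel q i • Pi.single i (1 : R)) = rel q := (pi_eq_sum_univ' (rel q)).symm
    have h2 : ψ (W.mkQ (rel q)) = 0 := by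
      rw [Submodule.mkQ_apply, (Submodule.Quotient.mk_eq_zero W).2 (hrelW q), map_zero]
    rw [← h1, map_sum, map_sum] at h2
    simpa [l'] using h2
  let k' : ↥S → LinearMap.ker g := fun i => ⟨i.1.1 - l' i, by simp [hl']⟩
  have hzeq : z' = ∑ i : ↥S, k' i ⊗ₜ[R] (i.1.2 : Q →₀ R) := by
    apply (TensorProduct.finsuppScalarRight R R (LinearMap.ker g) Q).injective
    ext q
    have h1 : ∑ i : ↥S, rel q i • ((k' i : L)) = (k q : L) := by
      simp only [k', smul_sub, Finset.sum_sub_distrib, hrel, hl'rel, sub_zero]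
    rw [map_sum, Finsupp.finsetSum_apply, Submodule.coe_sum]
    change (k q : L) = _
    rw [← h1]
    exact Finset.sum_congr rfl fun i _ => by simp [rel]
  rw [hzeq, map_sum]
  refine Finset.sum_eq_zero fun i _ => ?_
  rw [LinearMap.lTensor_tmul, LinearMap.mem_ker.1 i.1.2.2, TensorProduct.tmul_zero]

end Lifts

theorem pureProj_of_retract {P : Type u} [AddCommGroup P] [Module R P] {ι : Type u} {Q : ι → Type u}
    [∀ i, AddCommGroup (Q i)] [∀ i, Module R (Q i)] (hQ : ∀ i, Module.FinitePresentation R (Q i))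
    (s : P →ₗ[R] (Π₀ i, Q i)) (r : (Π₀ i, Q i) →ₗ[R] P) (hrs : r ∘ₗ s = LinearMap.id) : PureProj R P := by
  classical
  intro L N _ _ _ _ g hg hk φ
  choose ψ hψ using fun i => fpLifts_of_uInj hg hk (Q i) (hQ i) (φ ∘ₗ r ∘ₗ DFinsupp.lsingle i)
  refine ⟨(DFinsupp.lsum ℕ ψ) ∘ₗ s, ?_⟩
  have : g ∘ₗ DFinsupp.lsum ℕ ψ = φ ∘ₗ r := by
    refine DFinsupp.lhom_ext' fun i => LinearMap.ext fun q => ?_
    simpa using LinearMap.congr_fun (hψ i) q
  rw [← LinearMap.comp_assoc, this, LinearMap.comp_assoc, hrs, LinearMap.comp_id]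

/-- A universally exact presentation by a direct sum of finitely presented modules. -/
theorem exists_cover (M : Type u) [AddCommGroup M] [Module R M] :
    ∃ (ι : Type u) (Q : ι → Type u) (_ : ∀ i, AddCommGroup (Q i)) (_ : ∀ i, Module R (Q i)),
      (∀ i, Module.FinitePresentation R (Q i)) ∧ ∃ g : (Π₀ i, Q i) →ₗ[R] M,
        Function.Surjective g ∧ CAlgX.UniversallyInjective R (LinearMap.ker g).subtype := by
  classical
  let ι : Type u := Σ (n : ℕ) (s : Finset (Fin n → R)),
    ((Fin n → R) ⧸ Submodule.span R (s : Set (Fin n → R))) →ₗ[R] M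
  let Q : ι → Type u := fun i => (Fin i.1 → R) ⧸ Submodule.span R (i.2.1 : Set (Fin i.1 → R))
  let g : (Π₀ i, Q i) →ₗ[R] M := DFinsupp.lsum ℕ fun i => i.2.2
  have hlift : FPLifts R (L := Π₀ i, Q i) g := by
    intro P _ _ hP φ
    obtain ⟨n, K, e, hK⟩ := Module.FinitePresentation.exists_fin (fp := hP) R P
    obtain ⟨s, rfl⟩ := hK
    let i : ι := ⟨n, s, φ ∘ₗ e.symm.toLinearMap⟩
    refine ⟨(DFinsupp.lsingle i : Q i →ₗ[R] _) ∘ₗ e.toLinearMap, LinearMap.ext fun p => ?_⟩
    change g (DFinsupp.single i (e p)) = φ p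
    simp only [g, DFinsupp.lsum_single]
    simp [i]
  refine ⟨ι, Q, inferInstance, inferInstance, fun i => ?_, g, fun x => ?_, uInj_ker_of_fpLifts hlift⟩
  · exact Module.finitePresentation_of_surjective (Submodule.span R (i.2.1 : Set (Fin i.1 → R))).mkQ
      (Submodule.mkQ_surjective _) (by rw [Submodule.ker_mkQ]; exact Submodule.fg_span (Finset.finite_toSet _))
  · obtain ⟨ψ, hψ⟩ := hlift R inferInstance (LinearMap.toSpanSingleton R M x)
    exact ⟨ψ 1, by simpa using LinearMap.congr_fun hψ 1⟩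

theorem pureProj_iff (P : Type u) [AddCommGroup P] [Module R P] :
    PureProj R P ↔ ∃ (ι : Type u) (Q : ι → Type u) (_ : ∀ i, AddCommGroup (Q i)) (_ : ∀ i, Module R (Q i)),
      (∀ i, Module.FinitePresentation R (Q i)) ∧
        ∃ (s : P →ₗ[R] (Π₀ i, Q i)) (r : (Π₀ i, Q i) →ₗ[R] P), r ∘ₗ s = LinearMap.id := by
  constructor
  · intro h
    obtain ⟨ι, Q, iA, iM, hQ, g, hg, hk⟩ := exists_cover (R := R) P
    obtain ⟨s, hs⟩ := h g hg hk LinearMap.id
    exact ⟨ι, Q, iA, iM, hQ, s, g, hs⟩
  · rintro ⟨ι, Q, iA, iM, hQ, s, r, hrs⟩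
    exact pureProj_of_retract hQ s r hrs

section Exact

variable {A'' A' A B C : Type u} [AddCommGroup A''] [Module R A''] [AddCommGroup A'] [Module R A']
  [AddCommGroup A] [Module R A] [AddCommGroup B] [Module R B] [AddCommGroup C] [Module R C]

theorem rid_rTensor (f : A →ₗ[R] B) (x : A ⊗[R] R) :
    TensorProduct.rid R B (f.rTensor R x) = f (TensorProduct.rid R A x) := by
  induction x with
  | zero => simp
  | tmul a r => simp
  | add a b ha hb => simp [ha, hb]

theorem exact_of_univ {f : A →ₗ[R] B} {g : B →ₗ[R] C}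
    (h : ∀ (T : Type u) [AddCommGroup T] [Module R T], Function.Exact (f.rTensor T) (g.rTensor T)) :
    Function.Exact f g := by
  intro b
  constructor
  · intro hb
    obtain ⟨y, hy⟩ := (h R (b ⊗ₜ 1)).1 (by rw [LinearMap.rTensor_tmul, hb, zero_tmul])
    exact ⟨TensorProduct.rid R A y, by rw [← rid_rTensor, hy, TensorProduct.rid_tmul, one_smul]⟩
  · rintro ⟨a, rfl⟩
    have := (h R).apply_apply_eq_zero (a ⊗ₜ[R] (1 : R))
    simpa using congrArg (TensorProduct.rid R C) this

theorem lift_of_range {P : Type u} [AddCommGroup P] [Module R P] (hP : PureProj R P) (d' : A'' →ₗ[R] A')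
    (d : A' →ₗ[R] A) (f : A →ₗ[R] B) (hdf : Function.Exact d f)
    (hu : ∀ (T : Type u) [AddCommGroup T] [Module R T], Function.Exact (d'.rTensor T) (d.rTensor T))
    (φ : P →ₗ[R] B) (hφ : ∀ x, φ x ∈ LinearMap.range f) : ∃ ψ : P →ₗ[R] A, f ∘ₗ ψ = φ := by
  have hker : LinearMap.ker f.rangeRestrict = LinearMap.range d := by
    rw [LinearMap.ker_rangeRestrict, hdf.linearMap_ker_eq]
  have hk : CAlgX.UniversallyInjective R (LinearMap.ker f.rangeRestrict).subtype :=
    hker ▸ Groth.Agent.S8773.result R d' d hu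
  obtain ⟨ψ, hψ⟩ := hP f.rangeRestrict f.surjective_rangeRestrict hk (φ.codRestrict _ hφ)
  exact ⟨ψ, LinearMap.ext fun x => congrArg Subtype.val (LinearMap.congr_fun hψ x)⟩

theorem ext_of_exact {I : Type u} [AddCommGroup I] [Module R I] (hI : PureInj R I) (d : A →ₗ[R] B)
    (f : B →ₗ[R] C)
    (hu : ∀ (T : Type u) [AddCommGroup T] [Module R T], Function.Exact (d.rTensor T) (f.rTensor T))
    (φ : B →ₗ[R] I) (hφ : φ ∘ₗ d = 0) : ∃ ψ : C →ₗ[R] I, ψ ∘ₗ f = φ := by
  have hle : LinearMap.ker f ≤ LinearMap.ker φ := by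
    intro b hb
    obtain ⟨a, rfl⟩ := ((exact_of_univ hu) b).1 hb
    exact LinearMap.congr_fun hφ a
  obtain ⟨ψ, hψ⟩ := hI _ (Groth.Agent.S8773.result R d f hu)
    ((LinearMap.ker f).liftQ φ hle ∘ₗ f.quotKerEquivRange.symm.toLinearMap)
  refine ⟨ψ, LinearMap.ext fun b => ?_⟩
  have h := LinearMap.congr_fun hψ ⟨f b, LinearMap.mem_range_self f b⟩
  simp only [LinearMap.comp_apply, Submodule.coe_subtype, LinearEquiv.coe_coe] at h
  rw [LinearMap.comp_apply, h,
    show f.quotKerEquivRange.symm ⟨f b, LinearMap.mem_range_self f b⟩ = Submodule.Quotient.mk b by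
      rw [LinearEquiv.symm_apply_eq]; exact Subtype.ext rfl]
  rfl

end Exact

end Groth.Agent.PureExtLib
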