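import Mathlib
import Groth.Agent.PureExtLib.Basic

/-!
# Pure projective and pure injective resolutions

Comparison maps and homotopies from relative lifting conditions, translation of universal exactness of an augmented
complex to element-wise exactness, existence of pure resolutions.
-/

set_option autoImplicit false

universe u v w

open CategoryTheory Limits

namespace Groth.Agent.PureExtLib

section Generic

variable {V : Type w} [Category.{v} V] [Preadditive V] [HasZeroObject V]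

/-- Lifting conditions on an augmented complex relative to the terms of `P`. -/
structure LiftData (P N' : ChainComplex V ℕ) {N : V} (ε : N' ⟶ (ChainComplex.single₀ V).obj N) : Prop where
  aug : ∀ φ : P.X 0 ⟶ N, ∃ ψ : P.X 0 ⟶ N'.X 0, ψ ≫ ε.f 0 = φ
  zero : ∀ (i : ℕ) (φ : P.X i ⟶ N'.X 0), φ ≫ ε.f 0 = 0 → ∃ ψ : P.X i ⟶ N'.X 1, ψ ≫ N'.d 1 0 = φ
  succ : ∀ (i n : ℕ) (φ : P.X i ⟶ N'.X (n + 1)), φ ≫ N'.d (n + 1) n = 0 →
    ∃ ψ : P.X i ⟶ N'.X (n + 2), ψ ≫ N'.d (n + 2) (n + 1) = φ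

theorem LiftData.exists_lift {P N' : ChainComplex V ℕ} {M N : V} {ε : N' ⟶ (ChainComplex.single₀ V).obj N}
    (h : LiftData P N' ε) (π : P ⟶ (ChainComplex.single₀ V).obj M) (f : M ⟶ N) :
    ∃ φ : P ⟶ N', φ ≫ ε = π ≫ (ChainComplex.single₀ V).map f := by
  obtain ⟨φ0, hφ0⟩ := h.aug (π.f 0 ≫ f)
  have hπ : P.d 1 0 ≫ π.f 0 = 0 := by
    rw [← π.comm 1 0]; simp
    exact comp_zero
  obtain ⟨φ1, hφ1⟩ := h.zero 1 (P.d 1 0 ≫ φ0) (by
    refine ((Category.assoc _ _ _).trans (congrArg (P.d 1 0 ≫ ·) hφ0)).trans ?_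
    exact (Category.assoc _ _ _).symm.trans ((congrArg (· ≫ f) hπ).trans zero_comp))
  refine ⟨ChainComplex.mkHom _ _ φ0 φ1 hφ1 (fun n ⟨g, g', w⟩ =>
    ⟨Classical.choose (h.succ (n + 2) n (P.d (n + 2) (n + 1) ≫ g') (by rw [Category.assoc, w]; simp)),
     Classical.choose_spec (h.succ (n + 2) n (P.d (n + 2) (n + 1) ≫ g') (by rw [Category.assoc, w]; simp))⟩), ?_⟩
  apply HomologicalComplex.to_single_hom_ext
  simp
  exact hφ0

theorem LiftData.nonempty_homotopy {P N' : ChainComplex V ℕ} {N : V} {ε : N' ⟶ (ChainComplex.single₀ V).obj N}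
    (h : LiftData P N' ε) (α β : P ⟶ N') (hαβ : α ≫ ε = β ≫ ε) : Nonempty (Homotopy α β) := by
  suffices ∀ f : P ⟶ N', f ≫ ε = 0 → Nonempty (Homotopy f 0) by
    obtain ⟨H⟩ := this (α - β) (by rw [Preadditive.sub_comp, hαβ, sub_self])
    exact ⟨Homotopy.equivSubZero.invFun H⟩
  intro f comm
  obtain ⟨z, hz⟩ := h.zero 0 (f.f 0) (congr_fun (congr_arg HomologicalComplex.Hom.f comm) 0)
  obtain ⟨o, ho⟩ := h.succ 1 0 (f.f 1 - P.d 1 0 ≫ z)
    (by rw [Preadditive.sub_comp, Category.assoc, hz, HomologicalComplex.Hom.comm, sub_self])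
  refine ⟨Homotopy.mkInductive _ z (by simp [hz]) o (by simp [ho]) (fun n ⟨g, g', w⟩ =>
    ⟨Classical.choose (h.succ (n + 2) (n + 1) (f.f (n + 2) - P.d _ _ ≫ g') (by simp [w])), ?_⟩)⟩
  simp [Classical.choose_spec (h.succ (n + 2) (n + 1) (f.f (n + 2) - P.d _ _ ≫ g') (by simp [w]))]

/-- Extension conditions on a coaugmented complex relative to the terms of `I`. -/
structure ExtData (M' I : CochainComplex V ℕ) {M : V} (η : (CochainComplex.single₀ V).obj M ⟶ M') : Prop where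
  aug : ∀ φ : M ⟶ I.X 0, ∃ ψ : M'.X 0 ⟶ I.X 0, η.f 0 ≫ ψ = φ
  zero : ∀ (i : ℕ) (φ : M'.X 0 ⟶ I.X i), η.f 0 ≫ φ = 0 → ∃ ψ : M'.X 1 ⟶ I.X i, M'.d 0 1 ≫ ψ = φ
  succ : ∀ (i n : ℕ) (φ : M'.X (n + 1) ⟶ I.X i), M'.d n (n + 1) ≫ φ = 0 →
    ∃ ψ : M'.X (n + 2) ⟶ I.X i, M'.d (n + 1) (n + 2) ≫ ψ = φ

theorem ExtData.exists_desc {M' I : CochainComplex V ℕ} {M N : V} {η : (CochainComplex.single₀ V).obj M ⟶ M'}
    (h : ExtData M' I η) (ε : (CochainComplex.single₀ V).obj N ⟶ I) (f : M ⟶ N) :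
    ∃ φ : M' ⟶ I, η ≫ φ = (CochainComplex.single₀ V).map f ≫ ε := by
  obtain ⟨φ0, hφ0⟩ := h.aug (f ≫ ε.f 0)
  have hε : ε.f 0 ≫ I.d 0 1 = 0 := by
    rw [ε.comm 0 1]; simp
    exact zero_comp
  obtain ⟨φ1, hφ1⟩ := h.zero 1 (φ0 ≫ I.d 0 1) (by
    refine ((Category.assoc _ _ _).symm.trans (congrArg (· ≫ I.d 0 1) hφ0)).trans ?_
    exact (Category.assoc _ _ _).trans ((congrArg (f ≫ ·) hε).trans comp_zero))
  refine ⟨CochainComplex.mkHom _ _ φ0 φ1 hφ1.symm (fun n ⟨g, g', w⟩ =>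
    ⟨Classical.choose (h.succ (n + 2) n (g' ≫ I.d (n + 1) (n + 2)) (by rw [← reassoc_of% w]; simp)),
     (Classical.choose_spec (h.succ (n + 2) n (g' ≫ I.d (n + 1) (n + 2)) (by rw [← reassoc_of% w]; simp))).symm⟩), ?_⟩
  apply HomologicalComplex.from_single_hom_ext
  simp
  exact hφ0

theorem ExtData.nonempty_homotopy {M' I : CochainComplex V ℕ} {M : V} {η : (CochainComplex.single₀ V).obj M ⟶ M'}
    (h : ExtData M' I η) (α β : M' ⟶ I) (hαβ : η ≫ α = η ≫ β) : Nonempty (Homotopy α β) := by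
  suffices ∀ f : M' ⟶ I, η ≫ f = 0 → Nonempty (Homotopy f 0) by
    obtain ⟨H⟩ := this (α - β) (by rw [Preadditive.comp_sub, hαβ, sub_self])
    exact ⟨Homotopy.equivSubZero.invFun H⟩
  intro f comm
  obtain ⟨z, hz⟩ := h.zero 0 (f.f 0) (congr_fun (congr_arg HomologicalComplex.Hom.f comm) 0)
  obtain ⟨o, ho⟩ := h.succ 1 0 (f.f 1 - z ≫ I.d 0 1)
    (by rw [Preadditive.comp_sub, ← Category.assoc, hz, HomologicalComplex.Hom.comm, sub_self])
  have key : ∀ (n : ℕ) (g : M'.X (n + 1) ⟶ I.X n) (g' : M'.X (n + 2) ⟶ I.X (n + 1)),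
      f.f (n + 1) = M'.d (n + 1) (n + 2) ≫ g' + g ≫ I.d n (n + 1) →
      ∃ ψ : M'.X (n + 3) ⟶ I.X (n + 2), M'.d (n + 2) (n + 3) ≫ ψ = f.f (n + 2) - g' ≫ I.d _ _ := by
    intro n g g' w
    refine h.succ _ _ _ ?_
    rw [Preadditive.comp_sub, ← HomologicalComplex.Hom.comm, w, Preadditive.add_comp,
      Category.assoc, Category.assoc, HomologicalComplex.d_comp_d, comp_zero, add_zero, sub_self]
  refine ⟨Homotopy.mkCoinductive _ z (by simp [hz]) o (by simp [ho]) (fun n ⟨g, g', w⟩ =>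
    ⟨Classical.choose (key n g g' (by simp only [w, add_comm])), ?_⟩)⟩
  simp [Classical.choose_spec (key n g g' (by simp only [w, add_comm]))]

end Generic

section Modules

open MonoidalCategory TensorProduct

variable {R : Type u} [CommRing R]


theorem tensorRight_map_hom {X Y : ModuleCat.{u} R} (f : X ⟶ Y) (T : ModuleCat.{u} R) :
    ((MonoidalCategory.tensorRight T).map f).hom = f.hom.rTensor T := rfl

/-- Element-wise universal exactness of an augmented chain complex. -/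
structure UnivExact {N : ModuleCat.{u} R} (N' : ChainComplex (ModuleCat.{u} R) ℕ)
    (ε : N' ⟶ (ChainComplex.single₀ (ModuleCat.{u} R)).obj N) : Prop where
  succ : ∀ (n : ℕ) (T : ModuleCat.{u} R),
    Function.Exact ((N'.d (n + 2) (n + 1)).hom.rTensor T) ((N'.d (n + 1) n).hom.rTensor T)
  zero : ∀ T : ModuleCat.{u} R, Function.Exact ((N'.d 1 0).hom.rTensor T) ((ε.f 0).hom.rTensor T)
  surj : ∀ T : ModuleCat.{u} R, Function.Surjective ((ε.f 0).hom.rTensor T)

theorem quasiIso_tensor_iff {N : ModuleCat.{u} R} (N' : ChainComplex (ModuleCat.{u} R) ℕ)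
    (ε : N' ⟶ (ChainComplex.single₀ (ModuleCat.{u} R)).obj N) :
    (∀ T : ModuleCat.{u} R, QuasiIso (((MonoidalCategory.tensorRight T).mapHomologicalComplex (ComplexShape.down ℕ)).map ε)) ↔
      UnivExact N' ε := by
  have hS : ∀ (n : ℕ) (T : ModuleCat.{u} R),
      QuasiIsoAt (((MonoidalCategory.tensorRight T).mapHomologicalComplex (ComplexShape.down ℕ)).map ε) (n + 1) ↔
        Function.Exact ((N'.d (n + 2) (n + 1)).hom.rTensor T) ((N'.d (n + 1) n).hom.rTensor T) := by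
    intro n T
    rw [quasiIsoAt_iff_exactAt', HomologicalComplex.exactAt_iff' _ (n + 2) (n + 1) n (by simp) (by simp),
      ShortComplex.ShortExact.moduleCat_exact_iff_function_exact]
    · rfl
    · rw [HomologicalComplex.exactAt_iff]
      exact ShortComplex.exact_of_isZero_X₂ _
        (Functor.map_isZero (MonoidalCategory.tensorRight T) (HomologicalComplex.isZero_single_obj_X (ComplexShape.down ℕ) 0 N (n + 1) (by simp)))
  have h0 : ∀ T : ModuleCat.{u} R,
      QuasiIsoAt (((MonoidalCategory.tensorRight T).mapHomologicalComplex (ComplexShape.down ℕ)).map ε) 0 ↔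
        Function.Exact ((N'.d 1 0).hom.rTensor T) ((ε.f 0).hom.rTensor T) ∧
          Function.Surjective ((ε.f 0).hom.rTensor T) := by
    intro T
    rw [ChainComplex.quasiIsoAt₀_iff, ShortComplex.quasiIso_iff_of_zeros',
      ShortComplex.ShortExact.moduleCat_exact_iff_function_exact, ModuleCat.epi_iff_surjective]
    · rfl
    all_goals first | rfl | (simp; done) | (simp; rfl) | (simp; exact Functor.map_zero (MonoidalCategory.tensorRight T) _ _)
  constructor
  · intro h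
    exact ⟨fun n T => (hS n T).1 ((quasiIso_iff _).1 (h T) _), fun T => ((h0 T).1 ((quasiIso_iff _).1 (h T) 0)).1,
      fun T => ((h0 T).1 ((quasiIso_iff _).1 (h T) 0)).2⟩
  · intro h T
    rw [quasiIso_iff]
    rintro (_ | n)
    · exact (h0 T).2 ⟨h.zero T, h.surj T⟩
    · exact (hS n T).2 (h.succ n T)

theorem surjective_of_rTensor {A B : Type u} [AddCommGroup A] [Module R A] [AddCommGroup B] [Module R B]
    (f : A →ₗ[R] B) (h : Function.Surjective (f.rTensor R)) : Function.Surjective f := fun b => by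
  obtain ⟨y, hy⟩ := h (b ⊗ₜ 1)
  exact ⟨TensorProduct.rid R A y, by rw [← rid_rTensor, hy, TensorProduct.rid_tmul, one_smul]⟩

theorem injective_of_rTensor {A B : Type u} [AddCommGroup A] [Module R A] [AddCommGroup B] [Module R B]
    (f : A →ₗ[R] B) (h : Function.Injective (f.rTensor R)) : Function.Injective f := fun a b hab => by
  have := @h (a ⊗ₜ[R] (1 : R)) (b ⊗ₜ[R] (1 : R)) (by simp [hab])
  simpa using congrArg (TensorProduct.rid R A) this

theorem UnivExact.liftData {N : ModuleCat.{u} R} {P N' : ChainComplex (ModuleCat.{u} R) ℕ}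
    {ε : N' ⟶ (ChainComplex.single₀ (ModuleCat.{u} R)).obj N} (h : UnivExact N' ε)
    (hP : ∀ n, PureProj R (P.X n)) : LiftData P N' ε := by
  have hz : Function.Exact (N'.d 1 0).hom (ε.f 0).hom := exact_of_univ fun T _ _ => h.zero (ModuleCat.of R T)
  have hs : ∀ n, Function.Exact (N'.d (n + 2) (n + 1)).hom (N'.d (n + 1) n).hom :=
    fun n => exact_of_univ fun T _ _ => h.succ n (ModuleCat.of R T)
  refine ⟨fun φ => ?_, fun i φ hφ => ?_, fun i n φ hφ => ?_⟩
  · obtain ⟨ψ, hψ⟩ := lift_of_range (hP 0) (N'.d 2 1).hom (N'.d 1 0).hom (ε.f 0).hom hz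
      (fun T _ _ => h.succ 0 (ModuleCat.of R T)) φ.hom
      (fun x => surjective_of_rTensor (ε.f 0).hom (h.surj (ModuleCat.of R R)) _)
    exact ⟨ModuleCat.ofHom ψ, ModuleCat.hom_ext hψ⟩
  · obtain ⟨ψ, hψ⟩ := lift_of_range (hP i) (N'.d 3 2).hom (N'.d 2 1).hom (N'.d 1 0).hom (hs 0)
      (fun T _ _ => h.succ 1 (ModuleCat.of R T)) φ.hom
      (fun x => (hz _).1 (LinearMap.congr_fun (congrArg ModuleCat.Hom.hom hφ) x))
    exact ⟨ModuleCat.ofHom ψ, ModuleCat.hom_ext hψ⟩
  · obtain ⟨ψ, hψ⟩ := lift_of_range (hP i) (N'.d (n + 4) (n + 3)).hom (N'.d (n + 3) (n + 2)).hom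
      (N'.d (n + 2) (n + 1)).hom (hs (n + 1)) (fun T _ _ => h.succ (n + 2) (ModuleCat.of R T)) φ.hom
      (fun x => (hs n _).1 (LinearMap.congr_fun (congrArg ModuleCat.Hom.hom hφ) x))
    exact ⟨ModuleCat.ofHom ψ, ModuleCat.hom_ext hψ⟩

/-- Element-wise universal exactness of a coaugmented cochain complex. -/
structure CoUnivExact {M : ModuleCat.{u} R} (M' : CochainComplex (ModuleCat.{u} R) ℕ)
    (η : (CochainComplex.single₀ (ModuleCat.{u} R)).obj M ⟶ M') : Prop where
  succ : ∀ (n : ℕ) (T : ModuleCat.{u} R),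
    Function.Exact ((M'.d n (n + 1)).hom.rTensor T) ((M'.d (n + 1) (n + 2)).hom.rTensor T)
  zero : ∀ T : ModuleCat.{u} R, Function.Exact ((η.f 0).hom.rTensor T) ((M'.d 0 1).hom.rTensor T)
  inj : ∀ T : ModuleCat.{u} R, Function.Injective ((η.f 0).hom.rTensor T)

theorem quasiIso_tensor_iff' {M : ModuleCat.{u} R} (M' : CochainComplex (ModuleCat.{u} R) ℕ)
    (η : (CochainComplex.single₀ (ModuleCat.{u} R)).obj M ⟶ M') :
    (∀ T : ModuleCat.{u} R, QuasiIso (((MonoidalCategory.tensorRight T).mapHomologicalComplex (ComplexShape.up ℕ)).map η)) ↔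
      CoUnivExact M' η := by
  have hS : ∀ (n : ℕ) (T : ModuleCat.{u} R),
      QuasiIsoAt (((MonoidalCategory.tensorRight T).mapHomologicalComplex (ComplexShape.up ℕ)).map η) (n + 1) ↔
        Function.Exact ((M'.d n (n + 1)).hom.rTensor T) ((M'.d (n + 1) (n + 2)).hom.rTensor T) := by
    intro n T
    rw [quasiIsoAt_iff_exactAt, HomologicalComplex.exactAt_iff' _ n (n + 1) (n + 2) (by simp) (by simp),
      ShortComplex.ShortExact.moduleCat_exact_iff_function_exact]
    · rfl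
    · rw [HomologicalComplex.exactAt_iff]
      exact ShortComplex.exact_of_isZero_X₂ _
        (Functor.map_isZero (MonoidalCategory.tensorRight T) (HomologicalComplex.isZero_single_obj_X (ComplexShape.up ℕ) 0 M (n + 1) (by simp)))
  have h0 : ∀ T : ModuleCat.{u} R,
      QuasiIsoAt (((MonoidalCategory.tensorRight T).mapHomologicalComplex (ComplexShape.up ℕ)).map η) 0 ↔
        Function.Exact ((η.f 0).hom.rTensor T) ((M'.d 0 1).hom.rTensor T) ∧
          Function.Injective ((η.f 0).hom.rTensor T) := by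
    intro T
    rw [CochainComplex.quasiIsoAt₀_iff, ShortComplex.quasiIso_iff_of_zeros,
      ShortComplex.ShortExact.moduleCat_exact_iff_function_exact, ModuleCat.mono_iff_injective]
    · rfl
    all_goals first | rfl | (simp; done) | (simp; rfl) | (simp; exact Functor.map_zero (MonoidalCategory.tensorRight T) _ _)
  constructor
  · intro h
    exact ⟨fun n T => (hS n T).1 ((quasiIso_iff _).1 (h T) _), fun T => ((h0 T).1 ((quasiIso_iff _).1 (h T) 0)).1,
      fun T => ((h0 T).1 ((quasiIso_iff _).1 (h T) 0)).2⟩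
  · intro h T
    rw [quasiIso_iff]
    rintro (_ | n)
    · exact (h0 T).2 ⟨h.zero T, h.inj T⟩
    · exact (hS n T).2 (h.succ n T)

theorem CoUnivExact.extData {M : ModuleCat.{u} R} {M' I : CochainComplex (ModuleCat.{u} R) ℕ}
    {η : (CochainComplex.single₀ (ModuleCat.{u} R)).obj M ⟶ M'} (h : CoUnivExact M' η)
    (hI : ∀ n, PureInj R (I.X n)) : ExtData M' I η := by
  refine ⟨fun φ => ?_, fun i φ hφ => ?_, fun i n φ hφ => ?_⟩
  · obtain ⟨ψ, hψ⟩ := hI 0 (η.f 0).hom (fun T _ _ => h.inj (ModuleCat.of R T)) φ.hom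
    exact ⟨ModuleCat.ofHom ψ, ModuleCat.hom_ext hψ⟩
  · obtain ⟨ψ, hψ⟩ := ext_of_exact (hI i) (η.f 0).hom (M'.d 0 1).hom (fun T _ _ => h.zero (ModuleCat.of R T))
      φ.hom (congrArg ModuleCat.Hom.hom hφ)
    exact ⟨ModuleCat.ofHom ψ, ModuleCat.hom_ext hψ⟩
  · obtain ⟨ψ, hψ⟩ := ext_of_exact (hI i) (M'.d n (n + 1)).hom (M'.d (n + 1) (n + 2)).hom
      (fun T _ _ => h.succ n (ModuleCat.of R T)) φ.hom (congrArg ModuleCat.Hom.hom hφ)
    exact ⟨ModuleCat.ofHom ψ, ModuleCat.hom_ext hψ⟩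

end Modules

section Resolutions

open TensorProduct

variable {R : Type u} [CommRing R]

variable (R) in
/-- A chosen pure projective cover of a module. -/
structure Cover (M : ModuleCat.{u} R) where
  P : ModuleCat.{u} R
  g : P ⟶ M
  surj : Function.Surjective g.hom
  uinj : CAlgX.UniversallyInjective R (LinearMap.ker g.hom).subtype
  fp : ∃ (ι : Type u) (Q : ι → Type u) (_ : ∀ i, AddCommGroup (Q i)) (_ : ∀ i, Module R (Q i)),
    (∀ i, Module.FinitePresentation R (Q i)) ∧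
      ∃ (s : P →ₗ[R] (Π₀ i, Q i)) (r : (Π₀ i, Q i) →ₗ[R] P), r ∘ₗ s = LinearMap.id

theorem nonempty_cover (M : ModuleCat.{u} R) : Nonempty (Cover R M) := by
  obtain ⟨ι, Q, iA, iM, hQ, g, hg, hk⟩ := exists_cover (R := R) M
  exact ⟨⟨ModuleCat.of R (Π₀ i, Q i), ModuleCat.ofHom g, hg, hk,
    ι, Q, iA, iM, hQ, LinearMap.id, LinearMap.id, rfl⟩⟩

noncomputable def cover (M : ModuleCat.{u} R) : Cover R M := (nonempty_cover M).some

noncomputable def syz (M : ModuleCat.{u} R) : ℕ → ModuleCat.{u} R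
  | 0 => M
  | n + 1 => ModuleCat.of R (LinearMap.ker (cover (syz M n)).g.hom)

noncomputable def incl (M : ModuleCat.{u} R) (n : ℕ) : syz M (n + 1) ⟶ (cover (syz M n)).P :=
  ModuleCat.ofHom (LinearMap.ker (cover (syz M n)).g.hom).subtype

theorem exact_splice {A' K' A K C : Type u} [AddCommGroup A'] [Module R A'] [AddCommGroup K'] [Module R K']
    [AddCommGroup A] [Module R A] [AddCommGroup K] [Module R K] [AddCommGroup C] [Module R C]
    (p' : A' →ₗ[R] K') (i' : K' →ₗ[R] A) (p : A →ₗ[R] K) (i : K →ₗ[R] C) (hp' : Function.Surjective p')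
    (hp : Function.Surjective p) (he : Function.Exact i' p) (T : Type u) [AddCommGroup T] [Module R T]
    (hi : Function.Injective (i.rTensor T)) :
    Function.Exact ((i' ∘ₗ p').rTensor T) ((i ∘ₗ p).rTensor T) := by
  have hT := rTensor_exact T he hp
  intro x
  rw [LinearMap.rTensor_comp, LinearMap.rTensor_comp]
  constructor
  · intro hx
    obtain ⟨y, rfl⟩ := (hT x).1 (hi (by rw [map_zero]; exact hx))
    obtain ⟨z, rfl⟩ := LinearMap.rTensor_surjective T hp' y
    exact ⟨z, rfl⟩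
  · rintro ⟨z, rfl⟩
    simp [hT.apply_apply_eq_zero]

theorem exists_pureProj_resolution (M : ModuleCat.{u} R) :
    ∃ (P : ChainComplex (ModuleCat.{u} R) ℕ) (π : P ⟶ (ChainComplex.single₀ (ModuleCat.{u} R)).obj M),
      (∀ n : ℕ, ∃ (ι : Type u) (Q : ι → Type u) (_ : ∀ i, AddCommGroup (Q i)) (_ : ∀ i, Module R (Q i)),
        (∀ i, Module.FinitePresentation R (Q i)) ∧
        ∃ (s : P.X n →ₗ[R] (Π₀ i, Q i)) (r : (Π₀ i, Q i) →ₗ[R] P.X n), r ∘ₗ s = LinearMap.id) ∧
      UnivExact P π := by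
  have hig : ∀ n, incl M n ≫ (cover (syz M n)).g = 0 := fun n => ModuleCat.hom_ext (LinearMap.ext fun x => x.2)
  let d : ∀ n, (cover (syz M (n + 1))).P ⟶ (cover (syz M n)).P := fun n => (cover (syz M (n + 1))).g ≫ incl M n
  let P : ChainComplex (ModuleCat.{u} R) ℕ := ChainComplex.of (fun n => (cover (syz M n)).P) d
    (fun n => by simp only [d, Category.assoc, reassoc_of% (hig (n + 1))]; simp)
  have hd : ∀ n, (P.d (n + 1) n).hom =
      (LinearMap.ker (cover (syz M n)).g.hom).subtype ∘ₗ (cover (syz M (n + 1))).g.hom := fun n => by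
    rw [show P.d (n + 1) n = d n from by simp [P]]
    rfl
  have he : ∀ n, Function.Exact (LinearMap.ker (cover (syz M n)).g.hom).subtype (cover (syz M n)).g.hom :=
    fun n x => ⟨fun hx => ⟨⟨x, hx⟩, rfl⟩, by rintro ⟨y, rfl⟩; exact y.2⟩
  have hπ : P.d 1 0 ≫ (cover (syz M 0)).g = 0 := by
    rw [show P.d 1 0 = d 0 from ChainComplex.of_d (fun n => (cover (syz M n)).P) d 0]
    simp only [d, Category.assoc, hig 0, comp_zero]
  refine ⟨P, (ChainComplex.toSingle₀Equiv P M).symm ⟨(cover (syz M 0)).g, hπ⟩,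
    fun n => (cover (syz M n)).fp, ⟨fun n T => ?_, fun T => ?_, fun T => ?_⟩⟩
  · rw [hd, hd]
    exact exact_splice _ _ _ _ (cover (syz M (n + 2))).surj (cover (syz M (n + 1))).surj (he (n + 1)) T
      ((cover (syz M n)).uinj T)
  · rw [ChainComplex.toSingle₀Equiv_symm_apply_f_zero, hd]
    intro x
    have hT := rTensor_exact (T : Type u) (he 0) (cover (syz M 0)).surj
    refine (hT x).trans ⟨?_, ?_⟩
    · rintro ⟨y, rfl⟩
      obtain ⟨z, rfl⟩ := LinearMap.rTensor_surjective (T : Type u) (cover (syz M 1)).surj y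
      exact ⟨z, by rw [LinearMap.rTensor_comp]; rfl⟩
    · rintro ⟨z, rfl⟩
      exact ⟨(cover (syz M 1)).g.hom.rTensor T z, by rw [LinearMap.rTensor_comp]; rfl⟩
  · rw [ChainComplex.toSingle₀Equiv_symm_apply_f_zero]
    exact LinearMap.rTensor_surjective (T : Type u) (cover (syz M 0)).surj

noncomputable def hull (M : ModuleCat.{u} R) : ModuleCat.{u} R :=
  ModuleCat.of R (CharacterModule (CharacterModule M))

noncomputable def cosyz (M : ModuleCat.{u} R) : ℕ → ModuleCat.{u} R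
  | 0 => M
  | n + 1 => ModuleCat.of R (hull (cosyz M n) ⧸ LinearMap.range (PureExt.charEval R (cosyz M n)))

noncomputable def emb (M : ModuleCat.{u} R) (n : ℕ) : cosyz M n ⟶ hull (cosyz M n) :=
  ModuleCat.ofHom (PureExt.charEval R (cosyz M n))

noncomputable def proj (M : ModuleCat.{u} R) (n : ℕ) : hull (cosyz M n) ⟶ cosyz M (n + 1) :=
  ModuleCat.ofHom (LinearMap.range (PureExt.charEval R (cosyz M n))).mkQ

theorem exists_pureInj_resolution (M : ModuleCat.{u} R) :
    ∃ (I : CochainComplex (ModuleCat.{u} R) ℕ) (η : (CochainComplex.single₀ (ModuleCat.{u} R)).obj M ⟶ I),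
      (∀ n : ℕ, PureInj R (I.X n)) ∧ CoUnivExact I η := by
  have hep : ∀ n, emb M n ≫ proj M n = 0 := fun n => ModuleCat.hom_ext (LinearMap.ext fun x => by
    exact (Submodule.Quotient.mk_eq_zero _).2 (LinearMap.mem_range_self _ x))
  have hp : ∀ n, Function.Surjective (proj M n).hom := fun n => Submodule.mkQ_surjective _
  have he : ∀ n, Function.Exact (emb M n).hom (proj M n).hom := fun n x => by
    refine ⟨fun hx => (Submodule.Quotient.mk_eq_zero _).1 hx, ?_⟩
    rintro ⟨y, rfl⟩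
    exact (Submodule.Quotient.mk_eq_zero _).2 (LinearMap.mem_range_self _ y)
  let d : ∀ n, hull (cosyz M n) ⟶ hull (cosyz M (n + 1)) := fun n => proj M n ≫ emb M (n + 1)
  let I : CochainComplex (ModuleCat.{u} R) ℕ := CochainComplex.of (fun n => hull (cosyz M n)) d
    (fun n => by simp only [d, Category.assoc, reassoc_of% (hep (n + 1))]; simp)
  have hd : ∀ n, (I.d n (n + 1)).hom = (emb M (n + 1)).hom ∘ₗ (proj M n).hom := fun n => by
    rw [show I.d n (n + 1) = d n from by simp [I]]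
    rfl
  have hη : emb M 0 ≫ I.d 0 1 = 0 := by
    rw [show I.d 0 1 = d 0 from CochainComplex.of_d (fun n => hull (cosyz M n)) d 0]
    simp only [d, reassoc_of% (hep 0), zero_comp]
  refine ⟨I, (CochainComplex.fromSingle₀Equiv I M).symm ⟨emb M 0, hη⟩, fun n => pureInj_char _,
    ⟨fun n T => ?_, fun T => ?_, fun T => ?_⟩⟩
  · rw [hd, hd]
    exact exact_splice _ _ _ _ (hp n) (hp (n + 1)) (he (n + 1)) T (charEval_uInj (cosyz M (n + 2)) T)
  · rw [CochainComplex.fromSingle₀Equiv_symm_apply_f_zero, hd]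
    intro x
    have hT := rTensor_exact (T : Type u) (he 0) (hp 0)
    rw [LinearMap.rTensor_comp]
    refine Iff.trans ?_ (hT x)
    exact ⟨fun hx => charEval_uInj (cosyz M 1) T (by rw [map_zero]; exact hx),
      fun hx => by simp [hx]⟩
  · rw [CochainComplex.fromSingle₀Equiv_symm_apply_f_zero]
    exact charEval_uInj (cosyz M 0) T

end Resolutions

end Groth.Agent.PureExtLib
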